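import Mathlib.RingTheory.RegularLocalRing.Polynomial
import Mathlib.RingTheory.RingHom.StandardSmooth
import Mathlib.RingTheory.Flat.Localization
import Mathlib.RingTheory.Unramified.LocalRing
import Mathlib.RingTheory.Ideal.GoingDown
import Mathlib.RingTheory.Ideal.KrullsHeightTheorem
import Mathlib.RingTheory.Etale.Basic
import Mathlib.RingTheory.Smooth.Flat

/-!
Regularity of standard smooth algebras over fields.
-/

set_option autoImplicit false
universe u v

open IsLocalRing

namespace Groth.L21.Smooth

/-- A flat local homomorphism with `m_R S = m_S` preserves regularity and dimension. -/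
theorem regular_of_flat_of_map_maximalIdeal (R : Type u) (S : Type v) [CommRing R] [CommRing S]
    [Algebra R S] [IsRegularLocalRing R] [IsLocalRing S] [IsNoetherianRing S] [Module.Flat R S]
    (h : (maximalIdeal R).map (algebraMap R S) = maximalIdeal S) :
    IsRegularLocalRing S ∧ ringKrullDim S = ringKrullDim R := by
  haveI : (maximalIdeal S).LiesOver (maximalIdeal R) := ⟨by
    have : maximalIdeal R ≤ (maximalIdeal S).comap (algebraMap R S) := Ideal.map_le_iff_le_comap.mp h.le
    exact ((maximalIdeal.isMaximal R).eq_of_le (Ideal.IsPrime.comap _).ne_top this)⟩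
  have hht := Ideal.height_eq_height_add_of_liesOver_of_hasGoingDown (maximalIdeal R) (maximalIdeal S)
  haveI : ((maximalIdeal R).map (algebraMap R S)).IsMaximal := h ▸ maximalIdeal.isMaximal S
  letI : Field (S ⧸ (maximalIdeal R).map (algebraMap R S)) := Ideal.Quotient.field _
  have hbot : (maximalIdeal S).map (Ideal.Quotient.mk ((maximalIdeal R).map (algebraMap R S))) = ⊥ := by
    rw [Ideal.map_eq_bot_iff_le_ker, Ideal.mk_ker, h]
  rw [hbot, Ideal.height_bot, add_zero] at hht
  have hdim : ringKrullDim S = ringKrullDim R := by
    rw [← maximalIdeal_height_eq_ringKrullDim, ← maximalIdeal_height_eq_ringKrullDim, hht]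
  refine ⟨IsRegularLocalRing.of_spanFinrank_maximalIdeal_le _ ?_, hdim⟩
  have hle : (maximalIdeal S).spanFinrank ≤ (maximalIdeal R).spanFinrank := by
    rw [← h]
    obtain ⟨s, hcard, hs⟩ : ∃ s : Set R, s.ncard = (maximalIdeal R).spanFinrank ∧ s.Finite ∧
        Ideal.span s = maximalIdeal R := by
      have hfg : (maximalIdeal R).FG := (isNoetherianRing_iff_ideal_fg R).mp inferInstance _
      exact ⟨_, Submodule.FG.generators_ncard hfg, Submodule.FG.finite_generators hfg,
        Submodule.span_generators _⟩
    rw [← hs.2, Ideal.map_span, hs.2, ← hcard]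
    exact (Submodule.spanFinrank_span_le_ncard_of_finite (hs.1.image _)).trans (Set.ncard_image_le hs.1)
  rw [hdim, ← IsRegularLocalRing.spanFinrank_maximalIdeal (R := R)]
  exact_mod_cast hle

/-- Localisations of an algebra étale over a regular ring are regular, with the same dimension as
below. -/
theorem regular_localization_of_etale (P : Type u) (A : Type v) [CommRing P] [CommRing A]
    [IsRegularRing P] [Algebra P A] [Algebra.Etale P A] (q : Ideal A) [q.IsPrime] :
    IsRegularLocalRing (Localization.AtPrime q) ∧
      ringKrullDim (Localization.AtPrime q) = ringKrullDim (Localization.AtPrime (q.under P)) := by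
  haveI : (q.under P).IsPrime := Ideal.IsPrime.under P q
  letI := Localization.AtPrime.algebraOfLiesOver (q.under P) q
  haveI : IsNoetherianRing A := Algebra.FiniteType.isNoetherianRing P A
  haveI : Module.Flat P A := inferInstance
  refine regular_of_flat_of_map_maximalIdeal (Localization.AtPrime (q.under P)) (Localization.AtPrime q) ?_
  have h := ((Algebra.isUnramifiedAt_iff_map_eq P (q.under P) q).mp inferInstance).2
  rw [← Localization.AtPrime.map_eq_maximalIdeal, Ideal.map_map,
    ← IsScalarTower.algebraMap_eq P (Localization.AtPrime (q.under P)) (Localization.AtPrime q), h]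

/-- Standard smooth algebras over a field have regular local rings. -/
theorem regular_of_isStandardSmooth (k : Type u) [Field k] {A : Type u} [CommRing A] (φ : k →+* A)
    (hφ : φ.IsStandardSmooth) (q : Ideal A) [q.IsPrime] :
    IsRegularLocalRing (Localization.AtPrime q) := by
  obtain ⟨n, g, -, hg⟩ := hφ.exists_etale_mvPolynomial
  letI := g.toAlgebra
  haveI : Algebra.Etale (MvPolynomial (Fin n) k) A := hg
  exact (regular_localization_of_etale (MvPolynomial (Fin n) k) A q).1

end Groth.L21.Smooth
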