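import Mathlib.AlgebraicGeometry.Morphisms.Smooth
import Mathlib.RingTheory.DedekindDomain.Dvr
import Groth.Agent.L21.Smooth.EtaleRegular
import Groth.Agent.L01.Regular
import Groth.Agent.L03.RegularNormal

/-!
Stalks of smooth schemes over a field are regular; smooth curves have DVR stalks.
-/

set_option autoImplicit false
universe u

open CategoryTheory Limits AlgebraicGeometry IsLocalRing

namespace Groth.L21.Smooth

variable {k : Type u} [Field k] {X : Scheme.{u}} (f : X ⟶ Spec (CommRingCat.of k))

theorem regular_stalk [Smooth f] (x : X) : IsRegularLocalRing (X.presheaf.stalk x) := by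
  obtain ⟨U, hU, V, hV, hx, e, h⟩ := Smooth.exists_isStandardSmooth f x
  have hUtop : U = ⊤ := by
    ext y
    simp only [TopologicalSpace.Opens.coe_top, Set.mem_univ, iff_true]
    obtain rfl : y = f x := Subsingleton.elim (α := PrimeSpectrum k) _ _
    exact e hx
  subst hUtop
  have h' : ((f.appLE ⊤ V e).hom.comp (Scheme.ΓSpecIso (CommRingCat.of k)).inv.hom).IsStandardSmooth :=
    RingHom.isStandardSmooth_respectsIso.2 _
      (Scheme.ΓSpecIso (CommRingCat.of k)).symm.commRingCatIsoToRingEquiv h
  letI := X.presheaf.algebra_section_stalk ⟨x, hx⟩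
  haveI := hV.isLocalization_stalk ⟨x, hx⟩
  haveI := regular_of_isStandardSmooth k _ h' (hV.primeIdealOf ⟨x, hx⟩).asIdeal
  exact IsRegularLocalRing.of_ringEquiv
    (IsLocalization.algEquiv (hV.primeIdealOf ⟨x, hx⟩).asIdeal.primeCompl
      (Localization.AtPrime (hV.primeIdealOf ⟨x, hx⟩).asIdeal) (X.presheaf.stalk x)).toRingEquiv

theorem isDomain_stalk [Smooth f] (x : X) : IsDomain (X.presheaf.stalk x) := by
  haveI := regular_stalk f x
  exact Groth.L01.isDomain_of_regular _

theorem isIntegrallyClosed_stalk [Smooth f] (x : X) : IsIntegrallyClosed (X.presheaf.stalk x) := by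
  haveI := regular_stalk f x
  exact Groth.L03.RegularNormal.isIntegrallyClosed _

end Groth.L21.Smooth
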