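import Groth.Agent.L22.FibreDim
import Mathlib.AlgebraicGeometry.Morphisms.Smooth
import Mathlib.AlgebraicGeometry.Morphisms.Finite
import Mathlib.RingTheory.RingHom.StandardSmooth
import Mathlib.RingTheory.Spectrum.Prime.Chevalley
import Mathlib.RingTheory.Etale.Field
import Mathlib.RingTheory.Unramified.LocalRing
import Mathlib.FieldTheory.IsSepClosed
import Mathlib.FieldTheory.PerfectClosure
import Mathlib.FieldTheory.IsAlgClosed.Basic
import Mathlib.RingTheory.MvPolynomial.Basic
import Mathlib.Algebra.MvPolynomial.Funext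

/-!
Points with separable residue field on smooth schemes over a field.
-/

set_option autoImplicit false
set_option linter.style.haveILetI false
universe u

open CategoryTheory AlgebraicGeometry TopologicalSpace

noncomputable section

namespace Groth.L21.SepPoints

theorem infinite_of_isSepClosed (Ω : Type u) [Field Ω] [IsSepClosed Ω] : Infinite Ω := by
  rcases finite_or_infinite Ω with h | h
  · haveI : PerfectField Ω := inferInstance
    haveI : IsAlgClosed Ω := inferInstance
    infer_instance
  · exact h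

variable {k : Type u} [Field k] (Ω : Type u) [Field Ω] [Algebra k Ω] [IsSepClosed Ω]

theorem exists_hom_of_etale {n : ℕ} {B : Type u} [CommRing B] [Algebra (MvPolynomial (Fin n) k) B]
    [Algebra.Etale (MvPolynomial (Fin n) k) B] [Nontrivial B] :
    ∃ ψ : B →+* Ω, (ψ.comp (algebraMap (MvPolynomial (Fin n) k) B)).comp MvPolynomial.C = algebraMap k Ω := by
  haveI := infinite_of_isSepClosed Ω
  obtain ⟨q₀, hq₀⟩ := Ideal.exists_maximal B
  haveI : Module.Flat (MvPolynomial (Fin n) k) B := inferInstance
  have hopen := PrimeSpectrum.isOpenMap_comap_of_hasGoingDown_of_finitePresentation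
    (R := MvPolynomial (Fin n) k) (S := B) _ isOpen_univ
  let p₀ : PrimeSpectrum (MvPolynomial (Fin n) k) :=
    PrimeSpectrum.comap (algebraMap (MvPolynomial (Fin n) k) B) ⟨q₀, hq₀.isPrime⟩
  obtain ⟨_, ⟨_, ⟨f, rfl⟩, rfl⟩, hp₀f, hf⟩ := PrimeSpectrum.isBasis_basic_opens.exists_subset_of_mem_open
    (show p₀ ∈ PrimeSpectrum.comap (algebraMap (MvPolynomial (Fin n) k) B) '' Set.univ from ⟨_, trivial, rfl⟩) hopen
  have hf0 : f ≠ 0 := fun h => by
    rw [h, PrimeSpectrum.basicOpen_zero] at hp₀f
    exact hp₀f.elim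
  obtain ⟨a, ha⟩ : ∃ a : Fin n → Ω, MvPolynomial.eval a (MvPolynomial.map (algebraMap k Ω) f) ≠ 0 := by
    by_contra hall
    push Not at hall
    refine hf0 (MvPolynomial.map_injective _ (algebraMap k Ω).injective ?_)
    rw [map_zero]
    exact MvPolynomial.funext fun a => by rw [hall a, map_zero]
  let ev : MvPolynomial (Fin n) k →ₐ[k] Ω := MvPolynomial.aeval a
  let p : Ideal (MvPolynomial (Fin n) k) := RingHom.ker ev.toRingHom
  haveI : p.IsPrime := RingHom.ker_isPrime _
  have hfp : f ∉ p := fun h => ha (by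
    have h' : ev f = 0 := h
    rw [MvPolynomial.eval_map]
    exact h')
  obtain ⟨q, -, hq⟩ := hf (show (⟨p, inferInstance⟩ : PrimeSpectrum (MvPolynomial (Fin n) k)) ∈
    (PrimeSpectrum.basicOpen f : Set _) from hfp)
  haveI : q.asIdeal.LiesOver p := ⟨(congrArg PrimeSpectrum.asIdeal hq).symm⟩
  letI := Localization.AtPrime.algebraOfLiesOver p q.asIdeal
  letI := (Ideal.ResidueField.lift p ev.toRingHom le_rfl fun x hx =>
    isUnit_iff_ne_zero.2 fun h => hx h).toAlgebra
  let σ : q.asIdeal.ResidueField →ₐ[p.ResidueField] Ω := IsSepClosed.lift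
  refine ⟨σ.toRingHom.comp (algebraMap B q.asIdeal.ResidueField), RingHom.ext fun c => ?_⟩
  have h1 : algebraMap B q.asIdeal.ResidueField (algebraMap (MvPolynomial (Fin n) k) B (MvPolynomial.C c)) =
      algebraMap p.ResidueField q.asIdeal.ResidueField
        (algebraMap (MvPolynomial (Fin n) k) p.ResidueField (MvPolynomial.C c)) := by
    rw [← IsScalarTower.algebraMap_apply, ← IsScalarTower.algebraMap_apply]
  show σ (algebraMap B q.asIdeal.ResidueField (algebraMap (MvPolynomial (Fin n) k) B (MvPolynomial.C c))) = _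
  rw [h1, σ.commutes, RingHom.algebraMap_toAlgebra, Ideal.ResidueField.lift_algebraMap]
  exact MvPolynomial.aeval_C a c

theorem exists_hom_ne_zero_of_smooth {B : Type u} [CommRing B] {φ : k →+* B} (hφ : φ.IsStandardSmooth)
    {b : B} (hb : ¬ IsNilpotent b) : ∃ ψ : B →+* Ω, ψ.comp φ = algebraMap k Ω ∧ ψ b ≠ 0 := by
  obtain ⟨n, g, hgC, hg⟩ := hφ.exists_etale_mvPolynomial
  letI := g.toAlgebra
  haveI : Algebra.Etale (MvPolynomial (Fin n) k) B := hg
  haveI : Algebra.Etale B (Localization.Away b) := Algebra.Etale.of_isLocalizationAway b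
  haveI : Algebra.Etale (MvPolynomial (Fin n) k) (Localization.Away b) :=
    Algebra.Etale.comp (MvPolynomial (Fin n) k) B (Localization.Away b)
  haveI : Nontrivial (Localization.Away b) := by
    refine ⟨0, 1, fun h => hb ?_⟩
    obtain ⟨⟨_, m, rfl⟩, hm⟩ := (IsLocalization.map_eq_zero_iff (Submonoid.powers b) (Localization.Away b) 1).1
      (by rw [map_one]; exact h.symm)
    exact ⟨m, by simpa using hm⟩
  obtain ⟨ψ, hψ⟩ := exists_hom_of_etale (k := k) Ω (n := n) (B := Localization.Away b)
  refine ⟨ψ.comp (algebraMap B (Localization.Away b)), ?_, fun h => ?_⟩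
  · rw [← hgC, ← hψ, IsScalarTower.algebraMap_eq (MvPolynomial (Fin n) k) B (Localization.Away b),
      RingHom.algebraMap_toAlgebra]
    rfl
  · have hu := (IsLocalization.Away.algebraMap_isUnit (S := Localization.Away b) b).map ψ
    rw [show ψ (algebraMap B (Localization.Away b) b) = 0 from h] at hu
    exact not_isUnit_zero hu

variable (X : Scheme.{u}) [X.Over (Spec (CommRingCat.of k))] [Smooth (X ↘ Spec (CommRingCat.of k))]

/-- A non-empty open of a smooth scheme has a point with values in any separably closed extension. -/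
theorem exists_point {W : X.Opens} {x : X} (hx : x ∈ W) :
    ∃ (V : X.Opens) (hV : IsAffineOpen V) (ψ : Γ(X, V) →+* Ω),
      hV.fromSpec ⟨RingHom.ker ψ, RingHom.ker_isPrime ψ⟩ ∈ W ∧
      Spec.map (CommRingCat.ofHom ψ) ≫ hV.fromSpec ≫ (X ↘ Spec (CommRingCat.of k)) =
        Spec.map (CommRingCat.ofHom (algebraMap k Ω)) := by
  obtain ⟨U, hU, V, hV, hxV, e, hs⟩ := Smooth.exists_isStandardSmooth (X ↘ Spec (CommRingCat.of k)) x
  have hUtop : U = ⊤ := by
    ext y
    simp only [TopologicalSpace.Opens.coe_top, Set.mem_univ, iff_true]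
    obtain rfl : y = (X ↘ Spec (CommRingCat.of k)) x := Subsingleton.elim (α := PrimeSpectrum k) _ _
    exact e hxV
  subst hUtop
  set f := X ↘ Spec (CommRingCat.of k)
  have h' : ((f.appLE ⊤ V e).hom.comp (Scheme.ΓSpecIso (CommRingCat.of k)).inv.hom).IsStandardSmooth :=
    RingHom.isStandardSmooth_respectsIso.2 _
      (Scheme.ΓSpecIso (CommRingCat.of k)).symm.commRingCatIsoToRingEquiv hs
  obtain ⟨b, hbW, hxb⟩ := hV.exists_basicOpen_le (V := W) ⟨x, hx⟩ hxV
  have hb : ¬ IsNilpotent b := fun h => by
    have h1 := (X.mem_basicOpen b x hxV).1 hxb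
    exact (IsNilpotent.not_isUnit (h.map (X.presheaf.germ V x hxV).hom)) h1
  obtain ⟨ψ, hψ, hψb⟩ := exists_hom_ne_zero_of_smooth Ω h' hb
  refine ⟨V, hV, ψ, hbW ?_, ?_⟩
  · show hV.fromSpec _ ∈ X.basicOpen b
    have h2 : (⟨RingHom.ker ψ, RingHom.ker_isPrime ψ⟩ : PrimeSpectrum Γ(X, V)) ∈
        hV.fromSpec ⁻¹ᵁ X.basicOpen b := by
      rw [hV.fromSpec_preimage_basicOpen]
      exact hψb
    exact h2
  · have h3 : f.appLE ⊤ V e ≫ CommRingCat.ofHom ψ =
        (Scheme.ΓSpecIso (CommRingCat.of k)).hom ≫ CommRingCat.ofHom (algebraMap k Ω) := by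
      rw [← hψ]
      ext c
      show ψ (f.appLE ⊤ V e c) = ψ (f.appLE ⊤ V e ((Scheme.ΓSpecIso (CommRingCat.of k)).inv
        ((Scheme.ΓSpecIso (CommRingCat.of k)).hom c)))
      rw [Iso.hom_inv_id_apply]
    have h4 := (isAffineOpen_top (Spec (CommRingCat.of k))).SpecMap_appLE_fromSpec f hV e
    rw [← h4, ← Spec.map_comp_assoc, h3, Spec.map_comp, Category.assoc, IsAffineOpen.fromSpec_top,
      SpecMap_ΓSpecIso_hom, Scheme.toSpecΓ_isoSpec_inv, Category.comp_id]

/-- Over a separably closed field, smooth schemes have rational points in every non-empty open. -/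
theorem exists_section [IsSepClosed k] {W : X.Opens} {x : X} (hx : x ∈ W) :
    ∃ s : Spec (CommRingCat.of k) ⟶ X, s ≫ (X ↘ Spec (CommRingCat.of k)) = 𝟙 _ := by
  obtain ⟨V, hV, ψ, -, h⟩ := exists_point (k := k) k X hx
  refine ⟨Spec.map (CommRingCat.ofHom ψ) ≫ hV.fromSpec, ?_⟩
  rw [Category.assoc, h, Algebra.algebraMap_self]
  exact Spec.map_id _

/-- Closed points with finite separable residue field are dense in a smooth scheme. -/
theorem dense_separable_points :
    letI := fun z : X => Curv2.resAlgebra k X z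
    Dense {z : X | IsClosed ({z} : Set X) ∧ FiniteDimensional k (X.residueField z) ∧
      Algebra.IsSeparable k (X.residueField z)} := by
  letI := fun z : X => Curv2.resAlgebra k X z
  rw [dense_iff_inter_open]
  rintro W hW ⟨x, hx⟩
  obtain ⟨V, hV, ψ, hzW, hψ⟩ := exists_point (k := k) (SeparableClosure k) X (W := ⟨W, hW⟩) hx
  set f := X ↘ Spec (CommRingCat.of k)
  let s := Spec.map (CommRingCat.ofHom ψ) ≫ hV.fromSpec
  let pt := IsLocalRing.closedPoint (SeparableClosure k)
  have hpt : s pt = hV.fromSpec ⟨RingHom.ker ψ, RingHom.ker_isPrime ψ⟩ := by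
    refine (Scheme.Hom.comp_apply _ _ _).trans (congrArg _ (PrimeSpectrum.ext ?_))
    exact congrArg (Ideal.comap ψ) IsLocalRing.maximalIdeal_eq_bot
  refine ⟨s pt, hpt ▸ hzW, ?_⟩
  -- the residue field embeds
  let r := X.descResidueField (Scheme.stalkClosedPointTo s)
  have hr : Spec.map r ≫ X.fromSpecResidueField (s pt) = s :=
    Scheme.descResidueField_stalkClosedPointTo_fromSpecResidueField _ X s
  have hcomp : r.hom.comp (Curv2.resMap k X (s pt)) = algebraMap k (SeparableClosure k) := by
    have h1 : Spec.map r ≫ Spec.map (CommRingCat.ofHom (Curv2.resMap k X (s pt))) =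
        Spec.map (CommRingCat.ofHom (algebraMap k (SeparableClosure k))) := by
      erw [Groth.L22.FibreDim.SpecMap_resMap k X (s pt)]
      rw [reassoc_of% hr, Category.assoc]
      exact hψ
    rw [← Spec.map_comp] at h1
    exact congrArg CommRingCat.Hom.hom (Spec.map_injective h1)
  let ι : X.residueField (s pt) →ₐ[k] SeparableClosure k :=
    { r.hom with commutes' := fun c => congrFun (congrArg DFunLike.coe hcomp) c }
  haveI hsep : Algebra.IsSeparable k (X.residueField (s pt)) :=
    Algebra.IsSeparable.of_algHom k (SeparableClosure k) ι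
  haveI : LocallyOfFiniteType f := inferInstance
  haveI : JacobsonSpace X := LocallyOfFiniteType.jacobsonSpace f
  have hclosed : IsClosed ({s pt} : Set X) := by
    have hmax : (RingHom.ker ψ).IsMaximal := by
      let φ : k →+* Γ(X, V) := (f.appLE ⊤ V (by simp)).hom.comp (Scheme.ΓSpecIso (CommRingCat.of k)).inv.hom
      letI := φ.toAlgebra
      have hφψ : ψ.comp φ = algebraMap k (SeparableClosure k) := by
        have h4 := (isAffineOpen_top (Spec (CommRingCat.of k))).SpecMap_appLE_fromSpec f hV (by simp)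
        rw [← h4, IsAffineOpen.fromSpec_top, ← Spec.map_comp_assoc] at hψ
        rw [Iso.comp_inv_eq] at hψ
        simp only [Scheme.isoSpec_Spec_hom, ← Spec.map_comp] at hψ
        have h5 := congrArg CommRingCat.Hom.hom (Spec.map_injective hψ)
        refine RingHom.ext fun c => ?_
        have h6 := congrFun (congrArg DFunLike.coe h5) ((Scheme.ΓSpecIso (CommRingCat.of k)).inv c)
        refine h6.trans ?_
        show algebraMap k (SeparableClosure k) ((Scheme.ΓSpecIso (CommRingCat.of k)).hom
          ((Scheme.ΓSpecIso (CommRingCat.of k)).inv c)) = _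
        rw [Iso.inv_hom_id_apply]
      let ψ' : Γ(X, V) →ₐ[k] SeparableClosure k :=
        { ψ with commutes' := fun c => congrFun (congrArg DFunLike.coe hφψ) c }
      haveI : Algebra.IsIntegral k ψ'.range :=
        Algebra.IsIntegral.of_injective ψ'.range.val Subtype.val_injective
      have hF : IsField ψ'.range :=
        isField_of_isIntegral_of_isField' (R := k) (Field.toIsField k)
      exact Ideal.Quotient.maximal_of_isField _
        ((RingHom.quotientKerEquivRange ψ).toMulEquiv.isField hF)
    refine isClosed_singleton_of_isLocallyClosed_singleton ?_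
    rw [hpt, ← Set.image_singleton]
    exact ((PrimeSpectrum.isClosed_singleton_iff_isMaximal _).2 hmax).isLocallyClosed.image
      hV.fromSpec.isOpenEmbedding.isInducing hV.fromSpec.isOpenEmbedding.isOpen_range.isLocallyClosed
  refine ⟨hclosed, ?_, hsep⟩
  haveI := (isClosed_singleton_iff_locallyOfFiniteType).1 hclosed
  have hfin : IsFinite (Spec.map (CommRingCat.ofHom (Curv2.resMap k X (s pt)))) := by
    rw [Groth.L22.FibreDim.SpecMap_resMap, isFinite_iff_locallyOfFiniteType_of_jacobsonSpace]
    infer_instance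
  exact (IsFinite.SpecMap_iff _).1 hfin

end Groth.L21.SepPoints
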